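import Groth.Agent.Lib.SemiAbDesc2.Props
import Groth.Agent.Lib.UnipSplit24.AntiAffine
import Groth.Agent.Lib.LargestSub2.Basic
import Groth.Agent.Lib.Chev24.PowFinite
import Groth.Agent.Lib.TorusPrim24.Main
import Groth.Agent.Lib.AlgGrp14.Core
import Groth.Agent.Lib.WeakEtale.Basic
import Groth.Agent.Lib.IsogProps19.Points

/-!
# The multiples of a commutative group in positive characteristic are semi-abelian
-/

set_option autoImplicit false
set_option linter.all false
set_option backward.isDefEq.respectTransparency false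
set_option maxHeartbeats 1000000

universe u

open CategoryTheory CategoryTheory.Limits MonoidalCategory CartesianMonoidalCategory MonObj GrpObj
open AlgebraicGeometry

namespace GrothLib.SemiAbExp2

open SemiAbDesc2

section AlgClosed

variable {K : Type u} [Field K] [IsAlgClosed K]

local notation "pt₁" => 𝟙_ (Over (Spec (CommRingCat.of K)))

/-- Quasi-compactness of a morphism between quasi-compact separated objects. -/
theorem qc_left {X Y : Over (Spec (CommRingCat.of K))} [QuasiCompact X.hom] [IsSeparated Y.hom] (f : X ⟶ Y) :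
    QuasiCompact f.left := by
  haveI : QuasiCompact (f.left ≫ Y.hom) := by rw [Over.w f]; infer_instance
  exact QuasiCompact.of_comp f.left Y.hom

/-- A group with open origin is finite. -/
theorem isFinite_of_isOpen_one (Q : Over (Spec (CommRingCat.of K))) [GrpObj Q] [LocallyOfFiniteType Q.hom]
    [QuasiCompact Q.hom] (h : IsOpen (Set.range η[Q].left)) : IsFinite Q.hom := by
  haveI : JacobsonSpace Q.left := LocallyOfFiniteType.jacobsonSpace (Y := Spec _) Q.hom
  have hopen : ∀ x ∈ closedPoints Q.left, IsOpen ({x} : Set Q.left) := by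
    intro x hx
    obtain ⟨c, hc⟩ := Rigidity.exists_point_over Q x hx
    let t : Q ⟶ Q := 𝟙 Q * (toUnit Q ≫ c⁻¹)
    have hct : c ≫ t = η[Q] := by
      simp only [t, MonObj.comp_mul, Category.comp_id, MonObj.comp_one]
      rw [← Category.assoc, toUnit_unique (c ≫ toUnit Q) (𝟙 _), Category.id_comp, mul_inv_cancel,
        MonObj.one_eq_one]
    let t' : Q ⟶ Q := 𝟙 Q * (toUnit Q ≫ c)
    have htt : t ≫ t' = 𝟙 Q := by
      simp only [t', MonObj.comp_mul, Category.comp_id]
      rw [← Category.assoc, toUnit_unique (t ≫ toUnit Q) (toUnit Q)]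
      simp only [t]
      rw [GrpObj.comp_inv, inv_mul_cancel_right]
    have he : ({x} : Set Q.left) = t.left ⁻¹' Set.range η[Q].left := by
      apply Set.Subset.antisymm
      · rintro _ rfl
        refine ⟨IsLocalRing.closedPoint K, ?_⟩
        rw [← hc, ← hct]; rfl
      · rintro y ⟨z, hz⟩
        haveI : Subsingleton (pt₁).left := inferInstanceAs (Subsingleton (PrimeSpectrum K))
        have h1 : t.left y = t.left x := by
          rw [← hz, ← hc, Subsingleton.elim z (IsLocalRing.closedPoint K), ← hct]; rfl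
        have h2 := congrArg t'.left h1
        rw [← Scheme.Hom.comp_apply, ← Scheme.Hom.comp_apply, ← Over.comp_left, htt] at h2
        exact h2
    rw [he]
    exact h.preimage t.left.continuous
  have hall : ∀ x : Q.left, x ∈ closedPoints Q.left := by
    by_contra hx
    push_neg at hx
    obtain ⟨x, hx⟩ := hx
    have hcl : IsClosed (closedPoints Q.left)ᶜ := by
      rw [isClosed_compl_iff, ← Set.biUnion_of_singleton (closedPoints Q.left)]
      exact isOpen_biUnion hopen
    obtain ⟨y, hy, hyc⟩ := nonempty_inter_closedPoints (Z := (closedPoints Q.left)ᶜ) ⟨x, hx⟩ hcl.isLocallyClosed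
    exact hy hyc
  haveI : DiscreteTopology Q.left := discreteTopology_iff_isOpen_singleton.2 fun x => hopen x (hall x)
  haveI : CompactSpace Q.left := QuasiCompact.compactSpace_of_compactSpace Q.hom
  haveI : Finite Q.left := finite_of_compact_of_discrete
  haveI : LocallyQuasiFinite Q.hom :=
    LocallyQuasiFinite.of_finite_preimage_singleton _ fun _ => Set.toFinite _
  exact IsFinite.of_locallyQuasiFinite Q.hom

/-- A finite commutative group is killed by its order. -/
theorem exists_pow_eq_one_of_isFinite (Q : Over (Spec (CommRingCat.of K))) [GrpObj Q] [IsCommMonObj Q]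
    [IsFinite Q.hom] : ∃ n : ℕ, 0 < n ∧ (𝟙 Q : Q ⟶ Q) ^ n = 1 := by
  haveI : IsMonHom (toUnit Q) := inferInstance
  haveI : IsFinite (toUnit Q).left := inferInstanceAs (IsFinite Q.hom)
  haveI : Flat (toUnit Q).left := inferInstanceAs (Flat Q.hom)
  haveI : LocallyOfFinitePresentation (toUnit Q).left := inferInstanceAs (LocallyOfFinitePresentation Q.hom)
  haveI : Subsingleton (pt₁).left := inferInstanceAs (Subsingleton (PrimeSpectrum K))
  let n := Scheme.Hom.finrank (toUnit Q).left (η[pt₁].left (IsLocalRing.closedPoint K))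
  have hker : AlgGrp.IsKernel (𝟙 Q) (toUnit Q) := by
    refine ⟨⟨toUnit_unique _ _⟩, ⟨PullbackCone.IsLimit.mk _ (fun z => z.fst) (fun z => Category.comp_id _)
      (fun z => toUnit_unique _ _) (fun z m h1 h2 => by simpa using h1)⟩⟩
  refine ⟨n, ?_, GrpDeligne.kernel_pow_eq_one (toUnit Q) n (fun s => by rw [Subsingleton.elim s (IsLocalRing.closedPoint K)]) (𝟙 Q) hker⟩
  haveI : Surjective (toUnit Q).left := ⟨fun s => ⟨η[Q].left s, Subsingleton.elim _ _⟩⟩
  exact (Scheme.Hom.one_le_finrank_iff_surjective (toUnit Q).left).2 inferInstance _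

/-- Every homomorphism from a torus, or more generally from a semi-abelian variety, is divisible. -/
theorem surjective_pow_of_isSemiAb {S : Over (Spec (CommRingCat.of K))} [GrpObj S] [IsCommMonObj S]
    [Smooth S.hom] [QuasiCompact S.hom] (h : Chev24.IsSemiAb S) {n : ℕ} (hn : 0 < n) :
    Surjective ((𝟙 S : S ⟶ S) ^ n).left := by
  obtain ⟨T, _, i, A, _, q, hi, hic, hT, hq, hqs, hqf, hker, hAp, hAs, hAc⟩ := h
  haveI := hi; haveI := hic; haveI := hq; haveI := hqs; haveI := hAp; haveI := hAs; haveI := hAc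
  haveI := GrothLib.Neutral.geometricallyConnected_of_point A.hom (η[A] : 𝟙_ _ ⟶ A).left (Over.w _)
  haveI := GrothLib.Rigidity.geometricallyIntegral_of_smooth A
  haveI : LocallyOfFiniteType T.hom := by rw [← Over.w i]; infer_instance
  haveI : IsCommMonObj A := isCommMonObj_of_isProper_of_geometricallyIntegral A
  haveI : IsSeparated S.hom := GrpSchField.isSeparated S
  haveI := Cube.surjective_pow A (Nat.pos_iff_ne_zero.1 hn)
  haveI := TorusPrim24.surjective_pow_of_isTorus hT hn
  haveI : IsCommMonObj T := IsogProps19.isCommMonObj_of_torus T hT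
  haveI : IsMonHom ((𝟙 A : A ⟶ A) ^ n) := GrpDeligne.isMonHom_pow (𝟙 A) n
  haveI : IsMonHom ((𝟙 T : T ⟶ T) ^ n) := GrpDeligne.isMonHom_pow (𝟙 T) n
  haveI : IsMonHom ((𝟙 S : S ⟶ S) ^ n) := GrpDeligne.isMonHom_pow (𝟙 S) n
  haveI : JacobsonSpace S.left := LocallyOfFiniteType.jacobsonSpace (Y := Spec _) S.hom
  haveI := qc_left ((𝟙 S : S ⟶ S) ^ n)
  refine ⟨fun z => ?_⟩
  by_contra hz
  have hcl := (NeronCompGrp24.isClosed_range_hom ((𝟙 S : S ⟶ S) ^ n)).isOpen_compl
  obtain ⟨y, hy, hyc⟩ := nonempty_inter_closedPoints (Z := (Set.range ((𝟙 S : S ⟶ S) ^ n).left)ᶜ) ⟨z, fun h => hz h⟩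
    hcl.isLocallyClosed
  obtain ⟨x, hx⟩ := Rigidity.exists_point_over S y hyc
  obtain ⟨a, ha⟩ : ∃ a : pt₁ ⟶ A, a ≫ (𝟙 A : A ⟶ A) ^ n = x ≫ q :=
    IsogProps19.ptMap_surjective ((𝟙 A : A ⟶ A) ^ n) (x ≫ q)
  obtain ⟨b, hb⟩ : ∃ b : pt₁ ⟶ S, b ≫ q = a := IsogProps19.ptMap_surjective q a
  rw [MonObj.comp_pow, Category.comp_id] at ha
  obtain ⟨t, ht⟩ := GrpSchField.exists_lift_of_comp_eq_one hker (x * (b ^ n)⁻¹)
    (by rw [MonObj.mul_comp, GrpObj.inv_comp, MonObj.pow_comp, hb, ha, mul_inv_cancel])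
  obtain ⟨t', ht'⟩ : ∃ t' : pt₁ ⟶ T, t' ≫ (𝟙 T : T ⟶ T) ^ n = t :=
    IsogProps19.ptMap_surjective ((𝟙 T : T ⟶ T) ^ n) t
  rw [MonObj.comp_pow, Category.comp_id] at ht'
  refine hy ⟨((t' ≫ i) * b).left (IsLocalRing.closedPoint K), ?_⟩
  have e : ((t' ≫ i) * b) ≫ ((𝟙 S : S ⟶ S) ^ n) = x := by
    rw [MonObj.comp_pow, Category.comp_id, _root_.mul_pow, ← MonObj.pow_comp, ht', ht, inv_mul_cancel_right]
  rw [← hx, ← e]; rfl

/-- Over an algebraically closed field of positive characteristic, a multiple of a commutative group lies in a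
semi-abelian subgroup. -/
theorem exists_semiAb_factor (p : ℕ) [Fact p.Prime] [CharP K p] (G : Over (Spec (CommRingCat.of K))) [GrpObj G]
    [IsCommMonObj G] [LocallyOfFiniteType G.hom] [QuasiCompact G.hom] :
    ∃ (S : Over (Spec (CommRingCat.of K))) (_ : GrpObj S) (s : S ⟶ G) (n : ℕ) (f : G ⟶ S),
      IsMonHom s ∧ IsClosedImmersion s.left ∧ 0 < n ∧ Chev24.IsSemiAb S ∧ f ≫ s = (𝟙 G) ^ n := by
  obtain ⟨G₀, _, j, hj, hjc, hGs, hGc, hjo, -⟩ := Chev24.exists_openRedNeutral G
  haveI := hj; haveI := hjc; haveI := hGs; haveI := hGc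
  haveI : Mono j := Over.mono_of_mono_left j
  haveI : IsCommMonObj G₀ := AlgGrp14.isCommMonObj_of_mono j
  haveI : QuasiCompact G₀.hom := by rw [← Over.w j]; infer_instance
  haveI : IsSeparated G₀.hom := GrpSchField.isSeparated G₀
  -- multiples land in the neutral component
  obtain ⟨Q, _, c, hc, hQl, hQq, hcf, hcs, hcker⟩ :=
    LargestSub2.exists_quot j (fun T g n => ⟨n, by rw [mul_comm g, mul_inv_cancel_right]⟩)
  haveI := hc; haveI := hQl; haveI := hQq; haveI := hcf; haveI := hcs
  haveI : IsSeparated Q.hom := GrpSchField.isSeparated Q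
  haveI := qc_left c
  haveI : LocallyOfFiniteType c.left := by
    haveI : LocallyOfFiniteType (c.left ≫ Q.hom) := by rw [Over.w c]; infer_instance
    exact locallyOfFiniteType_of_comp c.left Q.hom
  haveI : IsLocallyNoetherian Q.left := LocallyOfFiniteType.isLocallyNoetherian Q.hom
  haveI : Epi c := by
    haveI : Epi c.left := Flat.epi_of_flat_of_surjective _
    exact (Over.forget _).epi_of_epi_map (inferInstanceAs (Epi c.left))
  haveI : IsCommMonObj Q := AlgGrp14.isCommMonObj_of_epi c
  have hopen : IsOpen (Set.range η[Q].left) := by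
    have : Set.range η[Q].left = c.left '' Set.range j.left := by
      haveI : Subsingleton (pt₁).left := inferInstanceAs (Subsingleton (PrimeSpectrum K))
      rw [← Set.range_comp, ← TopCat.coe_comp, ← Scheme.Hom.comp_base, ← Over.comp_left,
        GrpDeligne.ker_comp_eq_one hcker, Hom.one_def, Over.comp_left, Scheme.Hom.comp_base, TopCat.coe_comp,
        Set.range_comp]
      haveI : Surjective (toUnit G₀).left := ⟨fun x => ⟨η[G₀].left (IsLocalRing.closedPoint K), Subsingleton.elim _ _⟩⟩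
      rw [(toUnit G₀).left.surjective.range_eq, Set.image_univ]
    rw [this]
    exact c.left.isOpenMap _ hjo
  haveI := isFinite_of_isOpen_one Q hopen
  obtain ⟨e, he, heQ⟩ := exists_pow_eq_one_of_isFinite Q
  obtain ⟨f₀, hf₀⟩ := GrpSchField.exists_lift_of_comp_eq_one hcker ((𝟙 G) ^ e)
    (by rw [MonObj.pow_comp, Category.id_comp, ← Category.comp_id c, ← MonObj.comp_pow, heQ, MonObj.comp_one])
  -- the affine part and its splitting
  obtain ⟨N, _, i, hi, hic, hNs, hNc, hNa, hNn, hmax⟩ := Chev24.exists_affPart (G := G₀)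
  haveI := hi; haveI := hic; haveI := hNs; haveI := hNc; haveI := hNa
  haveI : Mono i := Over.mono_of_mono_left i
  obtain ⟨A, _, q, hq, hAs, hAq, hqf, hqs, hqe, hker⟩ := Chev24.exists_quot i hNn
  haveI := hq; haveI := hAs; haveI := hAq; haveI := hqf; haveI := hqs; haveI := hqe
  haveI hAp := Chev24.isProper_quotient i hmax q hker
  have hcomm : ∀ a b : pt₁ ⟶ N, a * b = b * a := fun a b => by
    rw [← cancel_mono i, MonObj.mul_comp, MonObj.mul_comp, mul_comm]
  obtain ⟨D, _, U, _, pp, s, u, r, hpp, hs, hu, hsp, hD, hDa, hDs, hDc, huc, hup, hur, hru, hU, hUs, hUc⟩ :=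
    Flag27.hasSplit_of_solvable (Chev24.isSolvable_pts_of_comm hcomm)
  haveI := hpp; haveI := hs; haveI := hu; haveI := hDa; haveI := hDs; haveI := hDc; haveI := huc; haveI := hUs
  haveI := hUc
  haveI : Mono u := Over.mono_of_mono_left u
  haveI : IsAffine U.left := Chev24.isAffine_of_isUnip hU
  haveI : IsCommMonObj U := AlgGrp14.isCommMonObj_of_mono (u ≫ i)
  obtain ⟨m, -, hm⟩ := UnipSplit24.exists_pow_eq_one p U (Flag27.IsUnip.hasNoSubtorus hU)
  let h : G₀ ⟶ G₀ := (𝟙 G₀) ^ (p ^ m)
  haveI : IsMonHom h := GrpDeligne.isMonHom_pow (𝟙 G₀) _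
  haveI := qc_left h
  have huh : u ≫ i ≫ h = 1 := by
    show u ≫ i ≫ (𝟙 G₀) ^ (p ^ m) = 1
    rw [MonObj.comp_pow, Category.comp_id, MonObj.comp_pow, ← Category.id_comp (u ≫ i), ← MonObj.pow_comp, hm,
      MonObj.one_comp]
  -- the image of `h` is semi-abelian
  obtain ⟨I, _, ph, jI, hph, hjI, hphj, hphs, hphf, hphl, hjm, hIl, -⟩ := Neutral.exists_factor_field h
  haveI := hph; haveI := hjI; haveI := hphs; haveI := hphf; haveI := hphl; haveI := hjm; haveI := hIl
  haveI : IsClosedImmersion jI.left := (Neutral.isClosedImmersion_factor h hphj).1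
  haveI : QuasiCompact I.hom := by rw [← Over.w jI]; infer_instance
  haveI : IsSeparated I.hom := GrpSchField.isSeparated I
  haveI : Smooth I.hom := FppfSource.fppfSourceDescends_smooth ph.left I.hom hphf hphl hphs
    (by rw [Over.w ph]; infer_instance)
  haveI : ConnectedSpace I.left := ph.left.surjective.connectedSpace ph.left.continuous
  haveI : IsCommMonObj I := AlgGrp14.isCommMonObj_of_mono jI
  haveI : QuasiCompact D.hom := inferInstance
  let t : D ⟶ I := s ≫ i ≫ ph
  haveI : IsMonHom t := inferInstanceAs (IsMonHom (s ≫ i ≫ ph))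
  haveI := qc_left t
  obtain ⟨E, _, pE, jE, hpE, hjE, hpjE, hpEs, hpEf, hpEl, hjEm, hEl, -⟩ := Neutral.exists_factor_field t
  haveI := hpE; haveI := hjE; haveI := hpEs; haveI := hpEf; haveI := hpEl; haveI := hjEm; haveI := hEl
  haveI : IsClosedImmersion jE.left := (Neutral.isClosedImmersion_factor t hpjE).1
  haveI : Smooth E.hom := FppfSource.fppfSourceDescends_smooth pE.left E.hom hpEf hpEl hpEs
    (by rw [Over.w pE]; infer_instance)
  haveI : ConnectedSpace E.left := pE.left.surjective.connectedSpace pE.left.continuous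
  haveI : IsAffine E.left := Chevalley.isAffine_of_surjective_hom pE
  obtain ⟨B, _, b, hb, hBs, hBq, hbf, hbs, hbe, hbker⟩ :=
    Chev24.exists_quot jE (fun T g n => ⟨n, by rw [mul_comm g, mul_inv_cancel_right]⟩)
  haveI := hb; haveI := hBs; haveI := hBq; haveI := hbf; haveI := hbs; haveI := hbe
  haveI := qc_left q
  have hid : (r ≫ u) * (pp ≫ s) = 𝟙 N := by rw [hru, inv_mul_cancel_right]
  have h1 : u ≫ i ≫ ph = 1 := by
    rw [← cancel_mono jI, Category.assoc, Category.assoc, hphj, huh, MonObj.one_comp]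
  have h2 : i ≫ ph ≫ b = 1 := by
    have h0 : i ≫ ph ≫ b = ((r ≫ u) * (pp ≫ s)) ≫ i ≫ ph ≫ b := by rw [hid, Category.id_comp]
    rw [h0, MonObj.mul_comp]
    have e1 : (r ≫ u) ≫ i ≫ ph ≫ b = 1 := by
      rw [show (r ≫ u) ≫ i ≫ ph ≫ b = r ≫ (u ≫ i ≫ ph) ≫ b by simp, h1, MonObj.one_comp, MonObj.comp_one]
    have e2 : (pp ≫ s) ≫ i ≫ ph ≫ b = 1 := by
      rw [show (pp ≫ s) ≫ i ≫ ph ≫ b = pp ≫ (s ≫ i ≫ ph) ≫ b by simp, show s ≫ i ≫ ph = pE ≫ jE from hpjE.symm,
        Category.assoc, GrpDeligne.ker_comp_eq_one hbker, MonObj.comp_one, MonObj.comp_one]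
    rw [e1, e2, _root_.mul_one]
  obtain ⟨g, _, hg⟩ := GrpDeligne.exists_factor q i hker (ph ≫ b) h2
  haveI : Surjective g.left := by
    haveI : Surjective (q.left ≫ g.left) := by
      rw [← Over.comp_left, hg]; exact inferInstanceAs (Surjective (ph.left ≫ b.left))
    exact Surjective.of_comp q.left g.left
  haveI : IsSeparated B.hom := GrpSchField.isSeparated B
  haveI : UniversallyClosed B.hom := by
    haveI : UniversallyClosed (g.left ≫ B.hom) := by rw [Over.w g]; infer_instance
    exact UniversallyClosed.of_comp_surjective g.left B.hom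
  have hI : Chev24.IsSemiAb I := ⟨E, inferInstance, jE, B, inferInstance, b, hjE, inferInstance,
    Chev24.isTorus_of_torus_surjective hD pE, hb, hbs, hbf, hbker, { }, hBs,
    b.left.surjective.connectedSpace b.left.continuous⟩
  refine ⟨I, inferInstance, jI ≫ j, e * p ^ m, f₀ ≫ ph, inferInstance,
    inferInstanceAs (IsClosedImmersion (jI.left ≫ j.left)), Nat.mul_pos he (pow_pos (Fact.out : p.Prime).pos m), hI, ?_⟩
  rw [Category.assoc, ← Category.assoc ph, hphj, ← Category.assoc]
  show (f₀ ≫ (𝟙 G₀) ^ (p ^ m)) ≫ j = _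
  rw [MonObj.comp_pow, Category.comp_id, MonObj.pow_comp, hf₀, pow_mul]

end AlgClosed

section Field

variable {k : Type u} [Field k]

local notation "φ" => Spec.map (CommRingCat.ofHom (algebraMap k (AlgebraicClosure k)))

theorem bc_pow {G : Over (Spec (CommRingCat.of k))} [GrpObj G] (n : ℕ) :
    (Over.pullback φ).map ((𝟙 G : G ⟶ G) ^ n) = (𝟙 (Red.bc φ G) : Red.bc φ G ⟶ _) ^ n := by
  rw [show (Over.pullback φ).map ((𝟙 G : G ⟶ G) ^ n) = (Over.pullback φ).map (𝟙 G) ^ n from
    map_pow (Functor.homMonoidHom (Over.pullback φ)) (𝟙 G) n, CategoryTheory.Functor.map_id]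

/-- Multiplication by a positive integer on a semi-abelian variety is finite, flat and surjective. -/
theorem pow_isogeny {S : Over (Spec (CommRingCat.of k))} [GrpObj S] [IsCommMonObj S] [LocallyOfFiniteType S.hom]
    [QuasiCompact S.hom] (h : SA S) {n : ℕ} (hn : 0 < n) :
    IsFinite ((𝟙 S : S ⟶ S) ^ n).left ∧ Flat ((𝟙 S : S ⟶ S) ^ n).left ∧ Surjective ((𝟙 S : S ⟶ S) ^ n).left := by
  obtain ⟨hs, hc⟩ := h.smooth_connected
  haveI := hs; haveI := hc
  haveI : Smooth (Red.bc φ S).hom := Flag27.smooth_bc φ S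
  haveI : QuasiCompact (Red.bc φ S).hom := inferInstanceAs (QuasiCompact (pullback.snd S.hom φ))
  haveI : IsCommMonObj (Red.bc φ S) := inferInstance
  let g : S ⟶ S := (𝟙 S) ^ n
  haveI : IsMonHom g := GrpDeligne.isMonHom_pow (𝟙 S) n
  haveI : Surjective g.left := by
    have hsurj : Surjective ((Over.pullback φ).map g).left := by
      rw [bc_pow]; exact surjective_pow_of_isSemiAb h.bc hn
    have hc : ((Over.pullback φ).map g).left ≫ pullback.fst S.hom φ = pullback.fst S.hom φ ≫ g.left :=
      pullback.lift_fst _ _ _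
    haveI : Surjective (pullback.fst S.hom φ ≫ g.left) := by rw [← hc]; infer_instance
    exact Surjective.of_comp (pullback.fst S.hom φ) g.left
  haveI := Chev24.isFinite_of_surjective S g
  haveI := GrothLib.Neutral.geometricallyConnected_of_point S.hom (η[S] : 𝟙_ _ ⟶ S).left (Over.w _)
  haveI := GrothLib.Rigidity.geometricallyIntegral_of_smooth S
  exact ⟨‹_›, Rigidity.flat_of_isFinite S S g, ‹_›⟩

/-- In positive characteristic, some multiple of a commutative group is semi-abelian. -/
theorem exists_pow_image_SA (p : ℕ) [Fact p.Prime] [CharP k p] (G : Over (Spec (CommRingCat.of k))) [GrpObj G]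
    [IsCommMonObj G] [LocallyOfFiniteType G.hom] [QuasiCompact G.hom] :
    ∃ (I : Over (Spec (CommRingCat.of k))) (_ : GrpObj I) (n : ℕ) (f : G ⟶ I) (j : I ⟶ G),
      0 < n ∧ IsMonHom f ∧ Flat f.left ∧ Surjective f.left ∧ IsMonHom j ∧ IsClosedImmersion j.left ∧ SA I ∧
      f ≫ j = (𝟙 G) ^ n := by
  let L := AlgebraicClosure k
  haveI : CharP L p := charP_of_injective_algebraMap (algebraMap k (AlgebraicClosure k)).injective p
  haveI : LocallyOfFiniteType (Red.bc φ G).hom := inferInstanceAs (LocallyOfFiniteType (pullback.snd G.hom φ))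
  haveI : QuasiCompact (Red.bc φ G).hom := inferInstanceAs (QuasiCompact (pullback.snd G.hom φ))
  obtain ⟨S, _, s, n, fS, hs, hsc, hn, hS, hfs⟩ := exists_semiAb_factor p (Red.bc φ G)
  haveI := hs; haveI := hsc
  haveI : Mono s := Over.mono_of_mono_left s
  haveI : IsSeparated G.hom := GrpSchField.isSeparated G
  let g : G ⟶ G := (𝟙 G) ^ n
  haveI : IsMonHom g := GrpDeligne.isMonHom_pow (𝟙 G) n
  haveI : QuasiCompact g.left := by
    haveI : QuasiCompact (g.left ≫ G.hom) := by rw [Over.w g]; infer_instance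
    exact QuasiCompact.of_comp g.left G.hom
  obtain ⟨I, _, f, j, hf, hj, hfj, hfsurj, hff, hfl, hjm, hIl, -⟩ := Neutral.exists_factor_field g
  haveI := hf; haveI := hj; haveI := hfsurj; haveI := hff; haveI := hfl; haveI := hjm; haveI := hIl
  haveI : IsClosedImmersion j.left := (Neutral.isClosedImmersion_factor g hfj).1
  haveI : QuasiCompact I.hom := by rw [← Over.w j]; infer_instance
  refine ⟨I, inferInstance, n, f, j, hn, hf, hff, hfsurj, hj, inferInstance, SA.of_bc ?_, hfj⟩
  let P := Over.pullback φ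
  haveI : LocallyOfFiniteType (Red.bc φ I).hom := inferInstanceAs (LocallyOfFiniteType (pullback.snd I.hom φ))
  haveI : QuasiCompact (Red.bc φ I).hom := inferInstanceAs (QuasiCompact (pullback.snd I.hom φ))
  haveI : IsSeparated (Red.bc φ I).hom := GrpSchField.isSeparated _
  let fK : Red.bc φ G ⟶ Red.bc φ I := P.map f
  let jK : Red.bc φ I ⟶ Red.bc φ G := P.map j
  haveI : IsMonHom fK := inferInstanceAs (IsMonHom (P.map f))
  haveI : Surjective fK.left :=
    MorphismProperty.overPullbackMap (P := @Surjective) φ f (inferInstanceAs (Surjective f.left))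
  haveI : Flat fK.left := MorphismProperty.overPullbackMap (P := @Flat) φ f (inferInstanceAs (Flat f.left))
  haveI := qc_left fK
  haveI : Epi fK := by
    haveI : Epi fK.left := Flat.epi_of_flat_of_surjective _
    exact (Over.forget _).epi_of_epi_map (inferInstanceAs (Epi fK.left))
  haveI : IsClosedImmersion jK.left :=
    MorphismProperty.overPullbackMap (P := @IsClosedImmersion) φ j (inferInstanceAs (IsClosedImmersion j.left))
  haveI : Mono jK := Over.mono_of_mono_left jK
  haveI : IsMonHom jK := inferInstanceAs (IsMonHom (P.map j))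
  haveI : IsMonHom fS := by
    haveI : IsMonHom (fS ≫ s) := by rw [hfs]; exact GrpDeligne.isMonHom_pow (𝟙 _) n
    exact GrothLib.CentMT14.isMonHom_of_comp fS s
  have hK : fK ≫ jK = fS ≫ s := by
    show P.map f ≫ P.map j = _
    rw [← P.map_comp, hfj, hfs]; exact bc_pow n
  obtain ⟨hkK, -⟩ : ∃ (_ : AlgGrp.IsKernel (pullback.fst fK η[Red.bc φ I]) fK), True := by
    refine ⟨?_, trivial⟩
    show IsPullback _ _ _ _
    rw [Subsingleton.elim (toUnit _) (pullback.snd fK η[Red.bc φ I])]
    exact IsPullback.of_hasPullback _ _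
  obtain ⟨_, _⟩ := GrpDeligne.exists_grpObj_kernel fK _ hkK
  obtain ⟨gg, hgg, hfg⟩ := GrpDeligne.exists_factor fK _ hkK fS (by
    rw [← cancel_mono s, Category.assoc, ← hK, ← Category.assoc, GrpDeligne.ker_comp_eq_one hkK, MonObj.one_comp,
      MonObj.one_comp])
  have hgs : gg ≫ s = jK := by rw [← cancel_epi fK, reassoc_of% hfg, hK]
  haveI : Mono gg := ⟨fun a b hab => by rw [← cancel_mono jK, ← hgs, reassoc_of% hab]⟩
  haveI : LocallyOfFiniteType S.hom := by rw [← Over.w s]; infer_instance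
  haveI : QuasiCompact S.hom := by rw [← Over.w s]; infer_instance
  haveI : IsCommMonObj S := AlgGrp14.isCommMonObj_of_mono s
  obtain ⟨-, hflat, hsur⟩ := pow_isogeny (k := L) hS hn
  let t : S ⟶ Red.bc φ I := s ≫ fK
  haveI : IsMonHom t := inferInstanceAs (IsMonHom (s ≫ fK))
  have htg : t ≫ gg = (𝟙 S) ^ n := by
    rw [← cancel_mono s, Category.assoc, hgs, MonObj.pow_comp, Category.id_comp]
    show (s ≫ fK) ≫ jK = _
    rw [Category.assoc, hK, hfs, MonObj.comp_pow, Category.comp_id]
  haveI : Mono gg.left := by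
    exact (Over.forget _).map_mono gg
  haveI : Flat t.left := by
    haveI : Flat (t.left ≫ gg.left) := by rw [← Over.comp_left, htg]; exact hflat
    exact WeakEtale.flat_of_comp_mono t.left gg.left
  haveI : Surjective t.left := by
    refine ⟨fun z => ?_⟩
    have hinj : Function.Injective gg.left := by
      have hj := jK.left.isClosedEmbedding.injective
      rw [← hgs, Over.comp_left, Scheme.Hom.comp_base, TopCat.coe_comp] at hj
      exact hj.of_comp
    haveI := hsur
    obtain ⟨w, hw⟩ := ((𝟙 S : S ⟶ S) ^ n).left.surjective (gg.left z)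
    refine ⟨w, hinj ?_⟩
    rw [← Scheme.Hom.comp_apply, ← Over.comp_left, htg, hw]
  exact SA.quotient t (hS : SA S)

end Field

end GrothLib.SemiAbExp2
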