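import Groth.Agent.Lib.SemiAbExp2.Basic

/-!
# Semi-abelian parts and exponents
-/

set_option autoImplicit false
set_option linter.all false
set_option backward.isDefEq.respectTransparency false
set_option maxHeartbeats 1000000

universe u

open CategoryTheory CategoryTheory.Limits MonoidalCategory CartesianMonoidalCategory MonObj GrpObj
open AlgebraicGeometry

namespace GrothLib.SemiAbExp2

open SemiAbDesc2

variable {k : Type u} [Field k] {S G : Over (Spec (CommRingCat.of k))} [GrpObj S] [GrpObj G] [IsCommMonObj G]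

/-- A flat surjective quasi-compact morphism is an epimorphism. -/
theorem epi_of_fppf {X Y : Over (Spec (CommRingCat.of k))} (f : X ⟶ Y) [Flat f.left] [Surjective f.left]
    [QuasiCompact f.left] : Epi f := by
  haveI : Epi f.left := Flat.epi_of_flat_of_surjective _
  exact (Over.forget _).epi_of_epi_map (inferInstanceAs (Epi f.left))

/-- A semi-abelian variety of finite exponent is trivial. -/
theorem isIso_one_of_pow_eq_one [IsCommMonObj S] [LocallyOfFiniteType S.hom] [QuasiCompact S.hom] (hS : SA S) {n : ℕ}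
    (hn : 0 < n) (h : (𝟙 S : S ⟶ S) ^ n = 1) : IsIso η[S] := by
  obtain ⟨hfin, hflat, hsurj⟩ := pow_isogeny hS hn
  haveI := hfin; haveI := hflat; haveI := hsurj
  haveI : Epi ((𝟙 S : S ⟶ S) ^ n) := epi_of_fppf _
  have h1 : toUnit S ≫ η[S] = 𝟙 S := by
    rw [← cancel_epi ((𝟙 S : S ⟶ S) ^ n), Category.comp_id]
    conv_rhs => rw [h, Hom.one_def]
    rw [← Category.assoc, toUnit_unique (((𝟙 S : S ⟶ S) ^ n) ≫ toUnit S) (toUnit S)]
  exact ⟨⟨toUnit S, toUnit_unique _ _, h1⟩⟩

/-- Powers restrict along monomorphisms. -/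
theorem comp_pow_self (s : S ⟶ G) [IsMonHom s] (n : ℕ) :
    ((𝟙 S : S ⟶ S) ^ n) ≫ s = s ≫ ((𝟙 G : G ⟶ G) ^ n) := by
  rw [MonObj.pow_comp, Category.id_comp, MonObj.comp_pow, Category.comp_id]

/-- A multiple of the group factors through its largest semi-abelian subgroup. -/
theorem exists_pow_factor (p : ℕ) [Fact p.Prime] [CharP k p] [LocallyOfFiniteType G.hom] [QuasiCompact G.hom]
    (s : S ⟶ G) [IsMonHom s] [IsClosedImmersion s.left]
    (hSmax : ∀ (S' : Over (Spec (CommRingCat.of k))) [GrpObj S'] (s' : S' ⟶ G) [IsMonHom s'] [IsClosedImmersion s'.left],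
      SA S' → ∃ g : S' ⟶ S, g ≫ s = s') :
    ∃ (n : ℕ) (f : G ⟶ S), 0 < n ∧ IsMonHom f ∧ f ≫ s = (𝟙 G) ^ n := by
  obtain ⟨I, _, n, f, j, hn, hf, hff, hfs, hj, hjc, hI, hfj⟩ := exists_pow_image_SA p G
  haveI := hf; haveI := hj; haveI := hjc
  haveI : Mono s := Over.mono_of_mono_left s
  obtain ⟨g, hg⟩ := hSmax I j hI
  refine ⟨n, f ≫ g, hn, ?_, by rw [Category.assoc, hg, hfj]⟩
  haveI : IsMonHom (g ≫ s) := by rw [hg]; infer_instance
  haveI : IsMonHom g := GrothLib.CentMT14.isMonHom_of_comp g s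
  infer_instance

end GrothLib.SemiAbExp2
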